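import Cfsg.Agent.AltDoubleCover.Flip
import Cfsg.Agent.AltDoubleCoverInvol.Basic

/-!
# Central involutions of Sylow 2-subgroups of double covers of alternating groups

An involution of a perfect double cover of `A_n` outside the centre fails to commute with some
lift of a permutation commuting with its image; hence it is not central in any Sylow 2-subgroup.
-/

set_option autoImplicit false

namespace CfsgLib.FusionSimple.DoubleCover

open Equiv Equiv.Perm CfsgLib.AltDoubleCover

variable {G : Type*} [Group G] [Finite G] {n : ℕ} {f : G →* alternatingGroup (Fin n)} {z : G}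

theorem four_fixed {v : Perm (Fin n)} {a b c d : Fin n} (h : [a, b, c, d].Nodup)
    (ha : v a = b) (hb : v b = a) (hc : v c = d) (hd : v d = c) :
    let x := (swap a b * swap c d)⁻¹ * v
    x a = a ∧ x b = b ∧ x c = c ∧ x d = d := by
  intro x
  simp only [List.nodup_cons, List.mem_cons, List.not_mem_nil, or_false, not_or, List.nodup_nil,
    and_true, not_false_iff] at h
  obtain ⟨⟨hab, hac, had⟩, ⟨hbc, hbd⟩, hcd⟩ := h
  simp only [x, mul_inv_rev, swap_inv, Perm.mul_apply, ha, hb, hc, hd]
  simp [swap_apply_of_ne_of_ne, hab, hac, had, hbc, hbd, hcd, Ne.symm hab, Ne.symm hac,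
    Ne.symm had, Ne.symm hbc, Ne.symm hbd, Ne.symm hcd]

/-- An involution outside the centre does not commute with some lift of an element commuting with
its image. -/
theorem exists_not_commute (H : IsDoubleCover f z) (hn : 5 ≤ n) {s : G} (hs : s * s = 1)
    (hs1 : f s ≠ 1) : ∃ Y : G, f Y * f s = f s * f Y ∧ Y * s ≠ s * Y := by
  classical
  set v : Perm (Fin n) := (f s : Perm (Fin n)) with hv
  have hv1 : v ≠ 1 := fun e => hs1 (Subtype.ext e)
  have hvv : v ^ 2 = 1 := by
    have e := congrArg (fun g => ((f g : alternatingGroup (Fin n)) : Perm (Fin n))) hs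
    simpa [map_mul, sq] using e
  have ho : orderOf v = 2 := orderOf_eq_prime hvv hv1
  obtain ⟨k, hk⟩ := cycleType_prime_order (σ := v) (by rw [ho]; exact Nat.prime_two)
  rw [ho] at hk
  have hsign : sign v = 1 := mem_alternatingGroup.1 (f s).2
  have hk2 : 2 ≤ v.cycleType.count 2 := by
    rw [hk, Multiset.count_replicate_self]
    by_contra h
    rw [sign_of_cycleType, hk, show k = 0 by omega] at hsign
    exact absurd hsign (by decide)
  obtain ⟨a, b, c, d, hnd, ha, hb, hc, hd⟩ := exists_two_swaps hk2
  obtain ⟨fa, fb, fc, fd⟩ := four_fixed hnd ha hb hc hd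
  have hmem1 : swap a b * swap c d ∈ alternatingGroup (Fin n) :=
    CfsgLib.AltDoubleCoverInvol.dt_mem hnd
  have hnd' : [a, c, b, d].Nodup := by
    simp only [List.nodup_cons, List.mem_cons, List.not_mem_nil, or_false, not_or] at hnd ⊢
    obtain ⟨⟨hab, hac, had⟩, ⟨hbc, hbd⟩, hcd, -⟩ := hnd
    simp [hac, hab, had, hcd, Ne.symm hbc, hbd]
  obtain ⟨X, hX⟩ := H.surj ⟨_, hmem1⟩
  obtain ⟨Y, hY⟩ := H.surj ⟨_, CfsgLib.AltDoubleCoverInvol.dt_mem hnd'⟩
  have hX' : (f X : Perm (Fin n)) = swap a b * swap c d := congrArg Subtype.val hX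
  have hY' : (f Y : Perm (Fin n)) = swap a c * swap b d := congrArg Subtype.val hY
  have hrest : (f (X⁻¹ * s) : Perm (Fin n)) = (swap a b * swap c d)⁻¹ * v := by
    rw [map_mul, map_inv, Subgroup.coe_mul, Subgroup.coe_inv, hX']
  have h1 : Y * (X⁻¹ * s) = X⁻¹ * s * Y := commute_of_fix H hY' hrest fa fb fc fd
  have h2 : X * Y = Y * X * z := anticomm H hn hnd hX' hY'
  have hsY : s * Y = Y * s * z := by
    calc s * Y = X * (X⁻¹ * s * Y) := by group
      _ = X * Y * (X⁻¹ * s) := by rw [← h1]; group
      _ = Y * X * (z * (X⁻¹ * s)) := by rw [h2]; group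
      _ = Y * X * ((X⁻¹ * s) * z) := by rw [H.central]
      _ = Y * s * z := by group
  refine ⟨Y, ?_, fun e => H.ne ?_⟩
  · rw [← map_mul, ← map_mul, hsY, map_mul (x := Y * s), H.map_z, mul_one]
  · rw [← e] at hsY
    exact mul_eq_left.1 hsY.symm

/-- The only involution centralised by a Sylow 2-subgroup of the cover is the central one. -/
theorem eq_of_central_sylow (H : IsDoubleCover f z) (hn : 5 ≤ n) (U : Sylow 2 G) {s : G}
    (hs : s * s = 1) (hc : ∀ u ∈ (U : Subgroup G), u * s = s * u) : s = 1 ∨ s = z := by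
  by_cases hs1 : f s = 1
  · exact H.ker s hs1
  obtain ⟨Y, hY, hne⟩ := exists_not_commute H hn hs hs1
  exfalso
  haveI : Fact (Nat.Prime 2) := ⟨Nat.prime_two⟩
  set D : Subgroup G := (Subgroup.centralizer ({f s} : Set (alternatingGroup (Fin n)))).comap f
  set K : Subgroup G := Subgroup.centralizer ({s} : Set G)
  have hKD : K ≤ D := fun g hg => by
    rw [Subgroup.mem_comap, Subgroup.mem_centralizer_singleton_iff, ← map_mul, ← map_mul,
      Subgroup.mem_centralizer_singleton_iff.1 hg]
  have hUK : (U : Subgroup G) ≤ K := fun u hu => Subgroup.mem_centralizer_singleton_iff.2 (hc u hu)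
  have hodd : ¬ 2 ∣ K.relIndex D := fun h =>
    U.not_dvd_index (dvd_trans h (dvd_trans (Subgroup.relIndex_dvd_index_of_le hKD)
      (Subgroup.index_dvd_of_le hUK)))
  have hle : K.relIndex D ≤ 2 := by
    -- the map `g ↦ ⁅g, s⁆` into `{1, z}` separates the cosets of `K` in `D`
    rw [Subgroup.relIndex, Subgroup.index]
    have hval : ∀ g : D, (g : G) * s * (g : G)⁻¹ = s ∨ (g : G) * s * (g : G)⁻¹ = s * z := fun g =>
      eq_or_mul H (by
        rw [map_mul, map_mul, map_inv, mul_inv_eq_iff_eq_mul,
          Subgroup.mem_centralizer_singleton_iff.1 (Subgroup.mem_comap.1 g.2)])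
    let φ : D ⧸ K.subgroupOf D → ({s, s * z} : Set G) := Quotient.lift
      (fun g : D => ⟨(g : G) * s * (g : G)⁻¹, hval g⟩) (by
        intro a b hab
        apply Subtype.ext
        have h : (a : G)⁻¹ * (b : G) ∈ K := by
          simpa [Subgroup.mem_subgroupOf] using (QuotientGroup.leftRel_apply.1 hab)
        have h' := Subgroup.mem_centralizer_singleton_iff.1 h
        calc (a : G) * s * (a : G)⁻¹
            = (a : G) * (s * ((a : G)⁻¹ * b)) * (b : G)⁻¹ := by group
          _ = (a : G) * ((a : G)⁻¹ * b * s) * (b : G)⁻¹ := by rw [h']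
          _ = (b : G) * s * (b : G)⁻¹ := by group)
    have hinj : Function.Injective φ := by
      intro A B
      induction A using QuotientGroup.induction_on with
      | H a => induction B using QuotientGroup.induction_on with
        | H b =>
          intro e
          have e' : (a : G) * s * (a : G)⁻¹ = (b : G) * s * (b : G)⁻¹ := congrArg Subtype.val e
          rw [QuotientGroup.eq, Subgroup.mem_subgroupOf]
          refine Subgroup.mem_centralizer_singleton_iff.2 ?_
          show (a : G)⁻¹ * b * s = s * ((a : G)⁻¹ * b)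
          calc (a : G)⁻¹ * b * s = (a : G)⁻¹ * ((b : G) * s * (b : G)⁻¹) * b := by group
            _ = (a : G)⁻¹ * ((a : G) * s * (a : G)⁻¹) * b := by rw [e']
            _ = s * ((a : G)⁻¹ * b) := by group
    refine (Nat.card_le_card_of_injective φ hinj).trans ?_
    rw [Nat.card_coe_set_eq]
    exact (Set.ncard_insert_le _ _).trans (by rw [Set.ncard_singleton])
  have h0 : K.relIndex D ≠ 0 := Subgroup.index_ne_zero_of_finite
  have h1 : K.relIndex D = 1 := by omega
  have hDK : D ≤ K := Subgroup.relIndex_eq_one.1 h1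
  refine hne (Subgroup.mem_centralizer_singleton_iff.1 (hDK ?_))
  rw [Subgroup.mem_comap, Subgroup.mem_centralizer_singleton_iff]
  exact hY

end CfsgLib.FusionSimple.DoubleCover
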