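import Cfsg.Agent.FusionSimple.DoubleCover.Central
import Cfsg.Agent.FusionSimple.Central
import Cfsg.Agent.FusionSimple.Alt.Main
import Cfsg.Agent.G2SylowFusion.Fusion

/-!
# The 2-fusion system of a group with an involution centralizer `2.Aₙ` of odd index is simple

If `G` is a non-abelian simple group with an involution `t` whose centralizer has odd index and is
a non-split double cover of `Aₙ`, `n ≥ 6`, then `t` is the only involution central in a Sylow
2-subgroup `U` of its centralizer, so `N_G(U) = U`, and a strongly closed subgroup contains `t`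
and maps onto a strongly closed subgroup of the fusion system of `Aₙ`.
-/

set_option autoImplicit false

namespace CfsgLib.FusionSimple.DoubleCover

open Cfsg CfsgLib.AltDoubleCover

variable {G : Type*} [Group G] [Finite G]

/-- The cover map of a centralizer that is a non-split double cover. -/
theorem exists_cover {t : G} (ht : orderOf t = 2) {n : ℕ} (hn : 5 ≤ n)
    (hcov : Cfsg.IsNonsplitDoubleCover (Subgroup.centralizer ({t} : Set G))
      (alternatingGroup (Fin n))) :
    ∃ f : Subgroup.centralizer ({t} : Set G) →* alternatingGroup (Fin n),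
      IsDoubleCover f ⟨t, Subgroup.mem_centralizer_singleton_iff.2 rfl⟩ := by
  set C := Subgroup.centralizer ({t} : Set G)
  obtain ⟨hcard, ⟨e⟩, hns⟩ := hcov
  set z : C := ⟨t, Subgroup.mem_centralizer_singleton_iff.2 rfl⟩
  have hz1 : z ≠ 1 := fun h => by
    have h' : t = 1 := congrArg Subtype.val h
    rw [h', orderOf_one] at ht
    omega
  have hzc : z ∈ Subgroup.center C :=
    Subgroup.mem_center_iff.2 fun g => Subtype.ext (Subgroup.mem_centralizer_singleton_iff.1 g.2)
  have hzz : z * z = 1 := Subtype.ext (by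
    show t * t = 1
    rw [← sq, ← ht, pow_orderOf_eq_one])
  have hZ : ∀ g : C, g ∈ Subgroup.center C ↔ g = 1 ∨ g = z := by
    intro g
    constructor
    · intro hg
      by_contra h
      push Not at h
      let φ : Fin 3 → Subgroup.center C := ![1, ⟨z, hzc⟩, ⟨g, hg⟩]
      have hφ : Function.Injective φ := by
        intro i j hij
        fin_cases i <;> fin_cases j <;>
          simp [φ, Subtype.ext_iff, hz1, hz1.symm, h.1, Ne.symm h.1, h.2, Ne.symm h.2] at hij ⊢
      have := Nat.card_le_card_of_injective φ hφ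
      rw [hcard, Nat.card_fin] at this
      omega
    · rintro (rfl | rfl)
      · exact one_mem _
      · exact hzc
  set f : C →* alternatingGroup (Fin n) := e.toMonoidHom.comp (QuotientGroup.mk' (Subgroup.center C))
  have hker : ∀ g, f g = 1 → g ∈ Subgroup.center C := by
    intro g hg
    exact (QuotientGroup.eq_one_iff g).1 (e.map_eq_one_iff.1 hg)
  have hcov' : AltDoubleCoverInvol.Cov f z :=
    { surj := e.surjective.comp (QuotientGroup.mk'_surjective _)
      central := fun g => (Subgroup.mem_center_iff.1 hzc g)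
      ne := hz1
      sq := hzz
      ker := fun g hg => (hZ g).1 (hker g hg)
      map_z := by
        show e _ = 1
        rw [show (QuotientGroup.mk' (Subgroup.center C)) z = 1 from (QuotientGroup.eq_one_iff z).2 hzc,
          map_one] }
  exact ⟨f, AltDoubleCoverInvol.perfect_of_mem hcov' hn
    (AltDoubleCoverInvol.mem_commutator_of_nonsplit hcov' (by omega) hZ hns)⟩

/-- The theorem. -/
theorem isSimple_two [IsSimpleGroup G] (hG : ¬ IsMulCommutative G) {t : G} (ht : orderOf t = 2)
    (hidx : ¬ 2 ∣ (Subgroup.centralizer ({t} : Set G)).index) {n : ℕ} (hn : 6 ≤ n)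
    (hcov : Cfsg.IsNonsplitDoubleCover (Subgroup.centralizer ({t} : Set G))
      (alternatingGroup (Fin n)))
    (S : Sylow 2 G) : (groupFusionSystem (S : Subgroup G)).IsSimple 2 := by
  haveI : Fact (Nat.Prime 2) := ⟨Nat.prime_two⟩
  set C := Subgroup.centralizer ({t} : Set G) with hC
  obtain ⟨z, hz, f, H⟩ : ∃ z : C, (z : G) = t ∧
      ∃ f : C →* alternatingGroup (Fin n), IsDoubleCover f z :=
    ⟨⟨t, Subgroup.mem_centralizer_singleton_iff.2 rfl⟩, rfl, exists_cover ht (by omega) hcov⟩
  set U₀ : Sylow 2 C := default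
  have hzU : z ∈ (U₀ : Subgroup C) := by
    have hp : IsPGroup 2 (Subgroup.zpowers z) :=
      IsPGroup.of_card (n := 1) (by
        rw [Nat.card_zpowers, pow_one]
        exact orderOf_eq_prime (by rw [sq, H.sq]) H.ne)
    haveI : (Subgroup.zpowers z).Normal := ⟨fun x hx g => by
      obtain ⟨k, rfl⟩ := Subgroup.mem_zpowers_iff.1 hx
      rw [(show Commute g z from H.central g).zpow_right k |>.eq, mul_inv_cancel_right]
      exact hx⟩
    exact (hp.le_sylow_of_normal U₀) (Subgroup.mem_zpowers z)
  -- the Sylow subgroup of `G`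
  set U' : Subgroup G := (U₀ : Subgroup C).map C.subtype with hU'
  have hUi : ¬ 2 ∣ U'.index := by
    rw [hU', Subgroup.index_map_subtype]
    intro h
    rcases (Nat.prime_two.dvd_mul).1 h with h | h
    · exact U₀.not_dvd_index h
    · exact hidx h
  set U : Sylow 2 G := (U₀.isPGroup'.map C.subtype).toSylow hUi with hUdef
  have hUmem : ∀ g : G, g ∈ (U : Subgroup G) ↔ ∃ h : g ∈ C, (⟨g, h⟩ : C) ∈ (U₀ : Subgroup C) := by
    intro g
    show g ∈ U' ↔ _
    constructor
    · rintro ⟨x, hx, rfl⟩
      exact ⟨x.2, hx⟩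
    · rintro ⟨h, hx⟩
      exact ⟨⟨g, h⟩, hx, rfl⟩
  have hUC : ∀ g ∈ (U : Subgroup G), g ∈ C := fun g hg => ((hUmem g).1 hg).1
  have htU : t ∈ (U : Subgroup G) := hz ▸ (hUmem z).2 ⟨z.2, hzU⟩
  have htc : ∀ u ∈ (U : Subgroup G), u * t = t * u := fun u hu =>
    Subgroup.mem_centralizer_singleton_iff.1 (hUC u hu)
  -- the central involutions of `U`
  have huniq : ∀ s ∈ (U : Subgroup G), s * s = 1 → (∀ u ∈ (U : Subgroup G), u * s = s * u) →
      s = 1 ∨ s = t := by
    intro s hs hss hsc
    obtain ⟨hsC, hs0⟩ := (hUmem s).1 hs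
    rcases eq_of_central_sylow H (by omega) U₀ (s := ⟨s, hsC⟩) (Subtype.ext hss) (fun u hu =>
      Subtype.ext (hsc u ((hUmem u).2 ⟨u.2, hu⟩))) with h | h
    · exact Or.inl (congrArg Subtype.val h)
    · exact Or.inr ((congrArg Subtype.val h).trans hz)
  have ht1 : t ≠ 1 := fun h => H.ne (Subtype.ext (hz.trans h))
  have htt : t * t = 1 := hz ▸ congrArg Subtype.val H.sq
  -- the image in `Aₙ`
  obtain ⟨V, hVU⟩ : ∃ V : Sylow 2 (alternatingGroup (Fin n)),
      (V : Subgroup (alternatingGroup (Fin n))) = (U₀ : Subgroup C).map f :=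
    ⟨U₀.mapSurjective H.surj, Sylow.coe_mapSurjective H.surj U₀⟩
  have hlift : ∀ g : C, f g ∈ (V : Subgroup (alternatingGroup (Fin n))) → g ∈ (U₀ : Subgroup C) := by
    intro g hg
    rw [hVU] at hg
    obtain ⟨u, hu, he⟩ := hg
    rcases eq_or_mul H he.symm with rfl | rfl
    · exact hu
    · exact mul_mem hu hzU
  refine isSimple_of_one_sylow U ?_ ?_ ?_ S
  · exact fun h => ht1 (Subgroup.mem_bot.1 (h ▸ htU))
  · -- strongly closed subgroups
    intro T hT
    by_cases hne : T = ⊥
    · exact Or.inl hne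
    refine Or.inr ?_
    -- `t ∈ T`
    have htT : t ∈ T := by
      obtain ⟨c, hc, hc1, hcc⟩ := exists_central_of_closed U.isPGroup' hT hne
      obtain ⟨k, hk⟩ := IsPGroup.iff_orderOf.1 U.isPGroup' ⟨c, hT.1 hc⟩
      have hk' : orderOf c = 2 ^ k := by rw [← hk, Subgroup.orderOf_mk]
      obtain ⟨k', rfl⟩ : ∃ k', k = k' + 1 := ⟨k - 1, by
        rcases k with _ | k
        · exact absurd (orderOf_eq_one_iff.1 hk') hc1
        · rfl⟩
      set s := c ^ (2 ^ k') with hs
      have hss : s * s = 1 := by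
        rw [hs, ← pow_add, ← two_mul, ← pow_succ', ← hk', pow_orderOf_eq_one]
      have hs1 : s ≠ 1 := fun h => by
        have h2 := orderOf_dvd_of_pow_eq_one h
        rw [hk', Nat.pow_dvd_pow_iff_le_right (by omega)] at h2
        omega
      rcases huniq s (hT.1 (T.pow_mem hc _)) hss (fun u hu =>
        ((show Commute u c from hcc u hu).pow_right _).eq) with h | h
      · exact absurd h hs1
      · exact h ▸ T.pow_mem hc _
    set T₀ : Subgroup C := T.subgroupOf C with hT₀
    have hT₀U : T₀ ≤ (U₀ : Subgroup C) := fun x hx => by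
      obtain ⟨_, h⟩ := (hUmem x).1 (hT.1 (Subgroup.mem_subgroupOf.1 hx))
      exact h
    have hclosed : Closed (V : Subgroup (alternatingGroup (Fin n))) (T₀.map f) := by
      refine ⟨hVU ▸ Subgroup.map_mono hT₀U, ?_⟩
      rintro _ ⟨x, hx, rfl⟩ h hh
      obtain ⟨k, rfl⟩ := H.surj h
      rw [← map_inv, ← map_mul, ← map_mul] at hh ⊢
      exact Subgroup.mem_map_of_mem f (Subgroup.mem_subgroupOf.2
        (hT.2 x (Subgroup.mem_subgroupOf.1 hx) k ((hUmem _).2 ⟨_, hlift _ hh⟩)))
    rcases Alt.eq_bot_or_eq_of_closed V hclosed (by rw [Fintype.card_fin]; omega) with h | h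
    · -- `T = ⟨t⟩` contradicts Glauberman
      exfalso
      obtain ⟨x, hx, hxt, hconj⟩ := CfsgLib.G2SylowFusion.exists_fused hG U t ht htc
      obtain ⟨g, hg⟩ := isConj_iff.1 hconj.symm
      have hxT : x ∈ T := hg ▸ hT.2 t htT g (hg ▸ hx)
      have hf : f ⟨x, hUC x hx⟩ = 1 := by
        have : f ⟨x, hUC x hx⟩ ∈ T₀.map f :=
          Subgroup.mem_map_of_mem f (Subgroup.mem_subgroupOf.2 hxT)
        rwa [h, Subgroup.mem_bot] at this
      rcases H.ker _ hf with h1 | h1
      · have hx1 : x = 1 := congrArg Subtype.val h1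
        exact ht1 (by
          have := hg
          rw [hx1, mul_inv_eq_one] at this
          exact mul_eq_left.1 this)
      · exact hxt ((congrArg Subtype.val h1).trans hz)
    · refine le_antisymm hT.1 fun u hu => ?_
      obtain ⟨huC, hu0⟩ := (hUmem u).1 hu
      have h2 : f ⟨u, huC⟩ ∈ T₀.map f := by
        rw [h, hVU]
        exact Subgroup.mem_map_of_mem f hu0
      obtain ⟨y, hy, he⟩ := h2
      rcases eq_or_mul H he.symm with h3 | h3
      · have h4 : u = y := congrArg Subtype.val h3
        rw [h4]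
        exact Subgroup.mem_subgroupOf.1 hy
      · have h4 : u = y * z := congrArg Subtype.val h3
        rw [h4, hz]
        exact T.mul_mem (Subgroup.mem_subgroupOf.1 hy) htT
  · -- the normalizer
    intro g hg
    refine Subgroup.subset_closure ⟨hg, Or.inl ?_⟩
    have hn' := Subgroup.mem_normalizer_iff.1 hg
    have h1 : g * t * g⁻¹ = t := by
      rcases huniq (g * t * g⁻¹) ((hn' t).1 htU)
        (by rw [show g * t * g⁻¹ * (g * t * g⁻¹) = g * (t * t) * g⁻¹ by group, htt, mul_one,
          mul_inv_cancel]) (fun u hu => by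
          have hu' : g⁻¹ * u * g ∈ (U : Subgroup G) := (hn' _).2 (by group; simpa using hu)
          calc u * (g * t * g⁻¹) = g * (g⁻¹ * u * g * t) * g⁻¹ := by group
            _ = g * (t * (g⁻¹ * u * g)) * g⁻¹ := by rw [htc _ hu']
            _ = g * t * g⁻¹ * u := by group) with h | h
      · rw [mul_inv_eq_one] at h
        exact absurd (mul_eq_left.1 h) ht1
      · exact h
    have hgC : g ∈ C :=
      Subgroup.mem_centralizer_singleton_iff.2 (by rwa [mul_inv_eq_iff_eq_mul] at h1)
    refine (hUmem g).2 ⟨hgC, hlift _ ?_⟩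
    obtain ⟨P, hP⟩ := (V.isPGroup'.map (alternatingGroup (Fin n)).subtype).exists_le_sylow
    have hmem : (P : Subgroup (Equiv.Perm (Fin n))).comap (alternatingGroup (Fin n)).subtype =
        (V : Subgroup (alternatingGroup (Fin n))) :=
      V.3 (P.isPGroup'.comap_of_injective _ Subtype.val_injective) fun x hx => hP ⟨x, hx, rfl⟩
    have hgV : f ⟨g, hgC⟩ ∈ Subgroup.normalizer ((V : Subgroup (alternatingGroup (Fin n))) :
        Set (alternatingGroup (Fin n))) := by
      rw [Subgroup.mem_normalizer_iff]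
      intro y
      obtain ⟨w, rfl⟩ := H.surj y
      rw [← map_inv, ← map_mul, ← map_mul]
      constructor
      · intro h
        obtain ⟨_, h0⟩ := (hUmem _).1 ((hn' w).1 ((hUmem _).2 ⟨w.2, hlift _ h⟩))
        exact hVU ▸ Subgroup.mem_map_of_mem f h0
      · intro h
        have := (hUmem _).2 ⟨_, hlift _ h⟩
        obtain ⟨_, h0⟩ := (hUmem _).1 ((hn' w).2 this)
        exact hVU ▸ Subgroup.mem_map_of_mem f h0
    show f ⟨g, hgC⟩ ∈ (V : Subgroup (alternatingGroup (Fin n)))
    rw [← hmem]
    refine CfsgLib.AltSylow.normalizer_sylow_inf_alternating (by rw [Fintype.card_fin]; omega) P ?_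
    rw [Subgroup.mem_normalizer_iff]
    intro y
    constructor
    · rintro ⟨hyP, hyA⟩
      have h1 := (Subgroup.mem_normalizer_iff.1 hgV ⟨y, hyA⟩).1 (hmem ▸ hyP)
      exact ⟨hP ⟨_, h1, rfl⟩,
        mul_mem (mul_mem (f ⟨g, hgC⟩).2 hyA) (Subgroup.inv_mem (alternatingGroup (Fin n)) (f ⟨g, hgC⟩).2)⟩
    · rintro ⟨hyP, hyA⟩
      have hyA' : y ∈ alternatingGroup (Fin n) := by
        have h2 := mul_mem (mul_mem (Subgroup.inv_mem (alternatingGroup (Fin n)) (f ⟨g, hgC⟩).2) hyA)
          (f ⟨g, hgC⟩).2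
        simpa [mul_assoc] using h2
      have h1 := (Subgroup.mem_normalizer_iff.1 hgV ⟨y, hyA'⟩).2 (hmem ▸ hyP)
      exact ⟨hP ⟨_, h1, rfl⟩, hyA'⟩

end CfsgLib.FusionSimple.DoubleCover
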