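import Cfsg.Agent.FusionSimple.DoubleCover.Main
import Cfsg.Prelude.Def_Spor_Ly

/-!
# Transfer of the criterion along isomorphisms; the Lyons group

The criterion applied to a group isomorphic to a simple group with an involution centralizer `2.A₁₁`.
-/

set_option autoImplicit false

namespace CfsgLib.FusionSimple.DoubleCover

open Cfsg

/-- Non-split double covers are preserved by isomorphisms of the cover. -/
theorem isNonsplitDoubleCover_congr {H H' K : Type*} [Group H] [Group H'] [Group K] (φ : H ≃* H')
    (h : Cfsg.IsNonsplitDoubleCover H K) : Cfsg.IsNonsplitDoubleCover H' K := by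
  obtain ⟨hcard, ⟨e⟩, hns⟩ := h
  have hmap : (Subgroup.center H).map φ.toMonoidHom = Subgroup.center H' := by
    ext x
    constructor
    · rintro ⟨y, hy, rfl⟩
      refine Subgroup.mem_center_iff.2 fun g => ?_
      obtain ⟨g, rfl⟩ := φ.surjective g
      show φ g * φ y = φ y * φ g
      rw [← map_mul, ← map_mul, Subgroup.mem_center_iff.1 hy g]
    · intro hx
      refine ⟨φ.symm x, Subgroup.mem_center_iff.2 fun g => φ.injective ?_, φ.apply_symm_apply x⟩
      rw [map_mul, map_mul, φ.apply_symm_apply, Subgroup.mem_center_iff.1 hx (φ g)]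
  refine ⟨?_, ⟨(QuotientGroup.congr _ _ φ hmap).symm.trans e⟩, fun L hL => ?_⟩
  · rw [← hmap, Subgroup.card_map_of_injective φ.injective, hcard]
  · refine hns (L.comap φ.toMonoidHom) ?_
    have h1 : Subgroup.center H = (Subgroup.center H').comap φ.toMonoidHom := by
      rw [← hmap, Subgroup.comap_map_eq_self_of_injective φ.injective]
    rw [h1]
    refine Subgroup.isComplement'_of_disjoint_and_mul_eq_univ ?_ ?_
    · rw [disjoint_iff, ← Subgroup.comap_inf, disjoint_iff.1 hL.disjoint]
      exact (MonoidHom.ker_eq_bot_iff φ.toMonoidHom).2 φ.injective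
    · refine Set.eq_univ_of_forall fun g => ?_
      obtain ⟨⟨⟨a, ha⟩, ⟨b, hb⟩⟩, hab⟩ := hL.2 (φ g)
      refine ⟨φ.symm a, ?_, φ.symm b, ?_, φ.injective ?_⟩
      · simpa using ha
      · simpa using hb
      · simpa using hab

/-- The Lyons group: the 2-fusion system is simple, given simplicity and an involution centralizer
`2.A₁₁` of odd index. -/
theorem isSimple_fusion_Ly [Finite Cfsg.Spor.Ly] [IsSimpleGroup Cfsg.Spor.Ly] {tI : Cfsg.Spor.Ly}
    (ho : orderOf tI = 2)
    (hcov : Cfsg.IsNonsplitDoubleCover (Subgroup.centralizer ({tI} : Set Cfsg.Spor.Ly))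
      (alternatingGroup (Fin 11)))
    (hcard : Nat.card Cfsg.Spor.Ly = 51765179004000000)
    (hC : Nat.card (Subgroup.centralizer ({tI} : Set Cfsg.Spor.Ly)) = 39916800)
    {G : Type*} [Group G] [Finite G] (hG : Cfsg.Spor.IsoLy G) (S : Sylow 2 G) :
    (groupFusionSystem (S : Subgroup G)).IsSimple 2 := by
  obtain ⟨e⟩ := hG
  haveI : IsSimpleGroup G := e.isSimpleGroup
  set t : G := e.symm tI
  have hmap : (Subgroup.centralizer ({tI} : Set Cfsg.Spor.Ly)).map e.symm.toMonoidHom =
      Subgroup.centralizer ({t} : Set G) := by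
    ext x
    constructor
    · rintro ⟨y, hy, rfl⟩
      rw [Subgroup.mem_centralizer_singleton_iff]
      show e.symm y * t = t * e.symm y
      rw [← map_mul, ← map_mul, Subgroup.mem_centralizer_singleton_iff.1 hy]
    · intro hx
      refine ⟨e x, ?_, e.symm_apply_apply x⟩
      rw [SetLike.mem_coe, Subgroup.mem_centralizer_singleton_iff]
      have h := congrArg e (Subgroup.mem_centralizer_singleton_iff.1 hx)
      simpa [t] using h
  have hnG : Nat.card G = 51765179004000000 := (Nat.card_congr e.toEquiv).trans hcard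
  have hcov' : Cfsg.IsNonsplitDoubleCover (Subgroup.centralizer ({t} : Set G))
      (alternatingGroup (Fin 11)) :=
    isNonsplitDoubleCover_congr
      ((Subgroup.equivMapOfInjective _ _ e.symm.injective).trans (MulEquiv.subgroupCongr hmap)) hcov
  have hCG : Nat.card (Subgroup.centralizer ({t} : Set G)) = 39916800 := by
    rw [← hmap, Subgroup.card_map_of_injective e.symm.injective, hC]
  have ht : orderOf t = 2 := by rw [← ho]; exact e.symm.orderOf_eq tI
  have ht1 : t ≠ 1 := fun h => by rw [h, orderOf_one] at ht; omega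
  refine isSimple_two ?_ ht ?_ (n := 11) (by norm_num) hcov' S
  · rintro ⟨⟨hc⟩⟩
    have hz : t ∈ Subgroup.center G := Subgroup.mem_center_iff.2 fun g => hc g t
    have hle : Subgroup.centralizer ({t} : Set G) = ⊤ :=
      eq_top_iff.2 fun g _ => Subgroup.mem_centralizer_singleton_iff.2 (hc g t)
    rw [hle, Subgroup.card_top, hnG] at hCG
    omega
  · have h := Subgroup.card_mul_index (Subgroup.centralizer ({t} : Set G))
    rw [hCG, hnG] at h
    have : (Subgroup.centralizer ({t} : Set G)).index = 1296826875 := by omega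
    rw [this]
    norm_num

end CfsgLib.FusionSimple.DoubleCover
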